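import Mathlib
import Cfsg.Prelude.Def_Characters

/-!
# Brauer–Suzuki–Wall, abstract form (S3282): shared definitions (helper71)

`Hyp t s K` bundles the hypotheses of the frozen statement.  `invPairs g` is the number of ordered
pairs of involutions with product `g`.  `Ctx t s K q d` is the output of the character-theoretic
half, the input of the group-theoretic half.  `Concl G` is the conclusion of the frozen statement.
`FactsA0`, `FactsA1`, `FactsB`, `FactsC` bundle the intermediate lemmas of the group-theoretic half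
so that later pieces can take all earlier ones as a single hypothesis.
-/

set_option autoImplicit false

namespace Cfsg.Agent.Helper71.BSW

/-- The hypotheses of the abstract Brauer–Suzuki–Wall theorem. -/
structure Hyp {G : Type*} [Group G] (t s : G) (K : Subgroup G) : Prop where
  ht : orderOf t = 2
  hKab : ∀ a ∈ K, ∀ b ∈ K, a * b = b * a
  hKH : K ≤ Subgroup.centralizer ({t} : Set G)
  htK : t ∈ K
  hs : orderOf s = 2
  hsH : s ∈ Subgroup.centralizer ({t} : Set G)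
  hsK : s ∉ K
  hH : K ⊔ Subgroup.zpowers s = Subgroup.centralizer ({t} : Set G)
  hCK : K ⊓ Subgroup.centralizer ({s} : Set G) = Subgroup.zpowers t
  hinv : ∀ x ∈ K, s * x * s⁻¹ = x⁻¹
  hTI : ∀ g : G, g ∉ Subgroup.centralizer ({t} : Set G) →
    K ⊓ K.map (MulAut.conj g).toMonoidHom = ⊥
  hconj : ∀ x y : G, orderOf x = 2 → orderOf y = 2 → IsConj x y

/-- The number of ordered pairs of involutions with product `g`. -/
noncomputable def invPairs {G : Type*} [Group G] (g : G) : ℕ :=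
  Nat.card {p : G × G // orderOf p.1 = 2 ∧ orderOf p.2 = 2 ∧ p.1 * p.2 = g}

/-- The generalized character `(1_K - μ)^G`. -/
noncomputable def theta {G : Type*} [Group G] [Fintype G] (K : Subgroup G) (μ : K →* ℂˣ) : G → ℂ :=
  Cfsg.indFun K (fun y : K => 1 - ((μ y : ℂˣ) : ℂ))

/-- Output of the character theory (for `4 ≤ |K|`). -/
structure Ctx {G : Type*} [Group G] (t s : G) (K : Subgroup G) (q d : ℕ) : Prop where
  hyp : Hyp t s K
  k4 : 4 ≤ Nat.card K
  sign : (q = 2 * Nat.card K + 1 ∧ d = Nat.card K + 1) ∨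
    (q + 1 = 2 * Nat.card K ∧ d + 1 = Nat.card K)
  card : Nat.card G = 2 * Nat.card K * q * d
  nopr : ∀ g : G, ∀ p r : ℕ, p.Prime → r.Prime → p ∣ q → r ∣ d → p ∣ orderOf g →
    r ∣ orderOf g → False
  countQ : Nat.card {g : G // ¬ (orderOf g).Coprime q} + 1 = q ^ 2
  invD : ∀ y : G, y ≠ 1 → (orderOf y).Coprime (2 * Nat.card K * q) → invPairs y = d

/-- The conclusion of the frozen statement S3282. -/
def Concl (G : Type*) [Group G] : Prop :=
  ∃ Q D : Subgroup G, 2 * Nat.card G = Nat.card ↥Q * (Nat.card ↥Q + 1) * (Nat.card ↥Q - 1) ∧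
      (∀ x ∈ Q, x ≠ 1 → Subgroup.centralizer ({x} : Set G) = Q) ∧
      IsMulCommutative ↥D ∧ 2 * Nat.card ↥D + 1 = Nat.card ↥Q ∧ Q ⊓ D = ⊥ ∧
      Subgroup.normalizer (Q : Set G) = Q ⊔ D ∧
      ∀ X : Subgroup G, X ≤ D → X ≠ ⊥ →
        Subgroup.normalizer (X : Set G) = Subgroup.normalizer (D : Set G) ∧
        ∃ u : G, orderOf u = 2 ∧ u ∉ D ∧ (∀ d ∈ D, u * d * u⁻¹ = d⁻¹) ∧
          Subgroup.normalizer (D : Set G) = D ⊔ Subgroup.zpowers u

/-- Elementary consequences of `Hyp` (first layer). -/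
structure FactsA0 {G : Type*} [Group G] (t s : G) (K : Subgroup G) : Prop where
  card_cent_t : Nat.card (Subgroup.centralizer ({t} : Set G)) = 2 * Nat.card K
  mem_cent_t_cases : ∀ g ∈ Subgroup.centralizer ({t} : Set G), g ∈ K ∨ ∃ x ∈ K, g = s * x
  orderOf_s_mul : ∀ x ∈ K, orderOf (s * x) = 2
  s_mul_inverts : ∀ x ∈ K, ∀ y ∈ K, (s * x) * y * (s * x)⁻¹ = y⁻¹
  eq_t_of_mem_K : ∀ x ∈ K, orderOf x = 2 → x = t
  cent_eq_K : ∀ x ∈ K, x ≠ 1 → x ≠ t → Subgroup.centralizer ({x} : Set G) = K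
  mem_cent_t_of_conj_mem : ∀ x ∈ K, x ≠ 1 → ∀ g : G, g * x * g⁻¹ ∈ K →
    g ∈ Subgroup.centralizer ({t} : Set G)
  two_dvd_card_K : 2 ∣ Nat.card K
  mem_K_of_odd : ∀ g ∈ Subgroup.centralizer ({t} : Set G), Odd (orderOf g) → g ∈ K
  normalizer_le_cent_t : ∀ A : Subgroup G, A ≤ K → A ≠ ⊥ →
    Subgroup.normalizer (A : Set G) ≤ Subgroup.centralizer ({t} : Set G)

/-- Consequences of `Hyp` (second layer). -/
structure FactsA1 {G : Type*} [Group G] (t s : G) (K : Subgroup G) : Prop where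
  coprime_index : (Nat.card G / (2 * Nat.card K)).Coprime (2 * Nat.card K)
  conj_into_K : ∀ g : G, ¬ (orderOf g).Coprime (2 * Nat.card K) → ∃ x : G, x * g * x⁻¹ ∈ K
  sylow_into_K : ∀ ℓ : ℕ, ℓ.Prime → ℓ ≠ 2 → ℓ ∣ Nat.card K → ∀ A : Subgroup G, IsPGroup ℓ A →
    ∃ x : G, A.map (MulAut.conj x).toMonoidHom ≤ K
  card_conjK : Nat.card {g : G // g ≠ 1 ∧ ∃ x : G, x * g * x⁻¹ ∈ K} * (2 * Nat.card K) =
    Nat.card G * (Nat.card K - 1)
  orderOf_dvd_of_commute : ∀ v g : G, v ≠ 1 → (∃ x : G, x * v * x⁻¹ ∈ K) → Commute g v →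
    orderOf g ∣ 2 * Nat.card K
  invPairs_of_mem_K : ∀ y ∈ K, y ≠ 1 → invPairs y = Nat.card K
  no_four_group : ∀ U : Subgroup G, U ≠ ⊥ → (Nat.card U).Coprime (2 * Nat.card K) →
    ∀ a b : G, a ∈ Subgroup.normalizer (U : Set G) → b ∈ Subgroup.normalizer (U : Set G) →
      orderOf a = 2 → orderOf b = 2 → Commute a b → a = b
  local_sylow_two_cyclic : ∀ U : Subgroup G, U ≠ ⊥ → (Nat.card U).Coprime (2 * Nat.card K) →
    ∀ S : Sylow 2 ↥(Subgroup.normalizer (U : Set G)), IsCyclic S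

/-- Consequences of `Ctx` (third layer). -/
structure FactsB {G : Type*} [Group G] (t s : G) (K : Subgroup G) (q d : ℕ) : Prop where
  arith : Odd q ∧ Odd d ∧ q.Coprime (2 * Nat.card K) ∧ d.Coprime (2 * Nat.card K) ∧ q.Coprime d ∧
      q ^ 2 = 4 * Nat.card K * d + 1 ∧ 3 ≤ d ∧ 7 ≤ q
  trichotomy : ∀ g : G, g ≠ 1 → (∃ x : G, x * g * x⁻¹ ∈ K) ∨
    (orderOf g).Coprime (2 * Nat.card K * d) ∨ (orderOf g).Coprime (2 * Nat.card K * q)
  card_cent_Q : ∀ z : G, z ≠ 1 → (orderOf z).Coprime (2 * Nat.card K * d) →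
    Nat.card (Subgroup.centralizer ({z} : Set G)) = q
  exists_Q : ∃ z : G, z ≠ 1 ∧ (orderOf z).Coprime (2 * Nat.card K * d)
  card_cent_D : ∀ y : G, y ≠ 1 → (orderOf y).Coprime (2 * Nat.card K * q) →
    Nat.card (Subgroup.centralizer ({y} : Set G)) = d ∧
      ∃ u : G, orderOf u = 2 ∧ ∀ v ∈ Subgroup.centralizer ({y} : Set G), u * v * u⁻¹ = v⁻¹
  cent_D_eq : ∀ y v : G, y ≠ 1 → (orderOf y).Coprime (2 * Nat.card K * q) →
    v ∈ Subgroup.centralizer ({y} : Set G) → v ≠ 1 →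
    (orderOf v).Coprime (2 * Nat.card K * q) ∧
      Subgroup.centralizer ({v} : Set G) = Subgroup.centralizer ({y} : Set G)
  cent_D_conj : ∀ y y' : G, y ≠ 1 → (orderOf y).Coprime (2 * Nat.card K * q) → y' ≠ 1 →
    (orderOf y').Coprime (2 * Nat.card K * q) →
    ∃ g : G, (Subgroup.centralizer ({y} : Set G)).map (MulAut.conj g).toMonoidHom =
      Subgroup.centralizer ({y'} : Set G)
  card_Delt : Nat.card {g : G // g ≠ 1 ∧ (orderOf g).Coprime (2 * Nat.card K * q)} =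
      q * Nat.card K * (d - 1)
  card_normalizer_D : ∀ y : G, y ≠ 1 → (orderOf y).Coprime (2 * Nat.card K * q) →
    Nat.card (Subgroup.normalizer ((Subgroup.centralizer ({y} : Set G) : Subgroup G) : Set G)) =
      2 * d
  normalizer_D : ∀ y u : G, y ≠ 1 → (orderOf y).Coprime (2 * Nat.card K * q) → orderOf u = 2 →
    (∀ v ∈ Subgroup.centralizer ({y} : Set G), u * v * u⁻¹ = v⁻¹) →
    u ∉ Subgroup.centralizer ({y} : Set G) ∧
    Subgroup.normalizer ((Subgroup.centralizer ({y} : Set G) : Subgroup G) : Set G) =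
      Subgroup.centralizer ({y} : Set G) ⊔ Subgroup.zpowers u ∧
    ∀ X : Subgroup G, X ≤ Subgroup.centralizer ({y} : Set G) → X ≠ ⊥ →
      Subgroup.normalizer (X : Set G) =
        Subgroup.normalizer ((Subgroup.centralizer ({y} : Set G) : Subgroup G) : Set G)
  odd_normalizer_centralizes : ∀ ℓ : ℕ, ℓ.Prime → ℓ ≠ 2 → ¬ ℓ ∣ q → ∀ A : Subgroup G,
    IsPGroup ℓ A → ∀ g ∈ Subgroup.normalizer (A : Set G), Odd (orderOf g) →
      g ∈ Subgroup.centralizer (A : Set G)

/-- `C(z)` is abelian, self-centralizing, and the `C(z)` are conjugate (fourth layer). -/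
structure FactsC {G : Type*} [Group G] (t s : G) (K : Subgroup G) (q d : ℕ) : Prop where
  abelian_Q : ∀ z : G, z ≠ 1 → (orderOf z).Coprime (2 * Nat.card K * d) →
    ∀ a ∈ Subgroup.centralizer ({z} : Set G), ∀ b ∈ Subgroup.centralizer ({z} : Set G),
      a * b = b * a
  cent_Q_eq : ∀ z v : G, z ≠ 1 → (orderOf z).Coprime (2 * Nat.card K * d) →
    v ∈ Subgroup.centralizer ({z} : Set G) → v ≠ 1 →
    (orderOf v).Coprime (2 * Nat.card K * d) ∧
      Subgroup.centralizer ({v} : Set G) = Subgroup.centralizer ({z} : Set G)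
  cent_Q_conj : ∀ z z' : G, z ≠ 1 → (orderOf z).Coprime (2 * Nat.card K * d) → z' ≠ 1 →
    (orderOf z').Coprime (2 * Nat.card K * d) →
    ∃ g : G, (Subgroup.centralizer ({z} : Set G)).map (MulAut.conj g).toMonoidHom =
      Subgroup.centralizer ({z'} : Set G)
  card_normalizer_Q : ∀ z : G, z ≠ 1 → (orderOf z).Coprime (2 * Nat.card K * d) →
    Nat.card (Subgroup.normalizer ((Subgroup.centralizer ({z} : Set G) : Subgroup G) : Set G)) *
      (q + 1) = Nat.card G

end Cfsg.Agent.Helper71.BSW
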