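import Cfsg.Agent.Helper71.BSW.Defs

/-!
# Brauer–Suzuki–Wall, abstract form (S3282): definitions for the character-theoretic half (helper71)

`coef K μ χ` is the multiplicity of the irreducible character `χ` in the generalized character
`theta K μ = (1_K - μ)^G`.  `FactsT` bundles the facts about the `theta K μ`; `ShapeA`/`ShapeB`
are the two possible outputs of the lattice argument; `FactsS` bundles the degrees and values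
obtained in case `ShapeA`.
-/

set_option autoImplicit false

namespace Cfsg.Agent.Helper71.BSW

open Cfsg
open scoped ComplexConjugate

/-- Kronecker delta, as a complex number. -/
noncomputable def ind {α : Type*} (a b : α) : ℂ := by
  classical exact if a = b then 1 else 0

theorem ind_self {α : Type*} (a : α) : ind a a = 1 := by
  classical
  unfold ind
  simp

theorem ind_of_ne {α : Type*} {a b : α} (h : a ≠ b) : ind a b = 0 := by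
  classical
  unfold ind
  simp [h]

theorem ind_of_eq {α : Type*} {a b : α} (h : a = b) : ind a b = 1 := by
  subst h
  exact ind_self a

/-- The multiplicity of `χ` in `theta K μ`. -/
noncomputable def coef {G : Type*} [Group G] [Fintype G] (K : Subgroup G) (μ : K →* ℂˣ)
    (χ : IrrCharacter G) : ℂ :=
  classInner (theta K μ) (χ : G → ℂ)

/-- Facts about the generalized characters `theta K μ` (consequences of `Hyp`). -/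
structure FactsT {G : Type*} [Group G] [Fintype G] [Fintype (IrrCharacter G)] (t s : G)
    (K : Subgroup G) [Fintype (↥K →* ℂˣ)] : Prop where
  theta_one : ∀ μ : K →* ℂˣ, theta K μ 1 = 0
  theta_conj : ∀ (μ : K →* ℂˣ) (g x : G), theta K μ (x * g * x⁻¹) = theta K μ g
  theta_mem : ∀ (μ : K →* ℂˣ) (y : K), (y : G) ≠ 1 →
    theta K μ (y : G) = 2 - ((μ y : ℂˣ) : ℂ) - ((μ y⁻¹ : ℂˣ) : ℂ)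
  theta_off : ∀ (μ : K →* ℂˣ) (g : G), (∀ x : G, x * g * x⁻¹ ∉ K) → theta K μ g = 0
  coef_int : ∀ (μ : K →* ℂˣ) (χ : IrrCharacter G), ∃ n : ℤ, coef K μ χ = (n : ℂ)
  theta_expand : ∀ (μ : K →* ℂˣ) (g : G),
    theta K μ g = ∑ χ : IrrCharacter G, coef K μ χ * (χ : G → ℂ) g
  gram : ∀ μ ν : K →* ℂˣ, μ ≠ 1 → ν ≠ 1 →
    ∑ χ : IrrCharacter G, coef K μ χ * coef K ν χ = 2 + ind μ ν + ind μ ν⁻¹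
  coef_triv : ∀ (μ : K →* ℂˣ) (triv : IrrCharacter G), μ ≠ 1 → (∀ g, (triv : G → ℂ) g = 1) →
    coef K μ triv = 1
  coef_inv : ∀ (μ : K →* ℂˣ) (χ : IrrCharacter G), coef K μ⁻¹ χ = coef K μ χ
  irr_apply_K : ∀ (χ : IrrCharacter G) (y : K), (y : G) ≠ 1 →
    (χ : G → ℂ) (y : G) = - ∑ μ : K →* ℂˣ, (1 - ind μ 1) * coef K μ χ * ((μ y : ℂˣ) : ℂ)
  sum_dual : ∀ y : K, y ≠ 1 → ∑ μ : K →* ℂˣ, ((μ y : ℂˣ) : ℂ) = 0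
  card_dual : Fintype.card (↥K →* ℂˣ) = Nat.card K
  exists_sigma : ∃ σ : K →* ℂˣ, σ ≠ 1 ∧ σ⁻¹ = σ ∧ ∀ μ : K →* ℂˣ, μ ≠ 1 → μ⁻¹ = μ → μ = σ
  F_const : ∀ μ : K →* ℂˣ, μ ≠ 1 →
    ∑ χ : IrrCharacter G, (χ : G → ℂ) t ^ 2 / (χ : G → ℂ) 1 * coef K μ χ =
      4 * (Nat.card K : ℂ) ^ 3 / (Nat.card G : ℂ)

/-- Output (A) of the lattice argument. -/
structure ShapeA {G : Type*} [Group G] [Fintype G] (K : Subgroup G) (triv : IrrCharacter G)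
    (σ : K →* ℂˣ) (δ : ℤ) (X : IrrCharacter G) (Λ : (K →* ℂˣ) → IrrCharacter G)
    (Y₁ Y₂ : IrrCharacter G) (ε₁ ε₂ : ℤ) : Prop where
  triv_apply : ∀ g, (triv : G → ℂ) g = 1
  hδ : δ = 1 ∨ δ = -1
  hε₁ : ε₁ = 1 ∨ ε₁ = -1
  hε₂ : ε₂ = 1 ∨ ε₂ = -1
  hσ1 : σ ≠ 1
  hσ : σ⁻¹ = σ
  hσu : ∀ μ : K →* ℂˣ, μ ≠ 1 → μ⁻¹ = μ → μ = σ
  X_ne : X ≠ triv
  Λ_ne : ∀ μ : K →* ℂˣ, μ ≠ 1 → μ ≠ σ →
    Λ μ ≠ triv ∧ Λ μ ≠ X ∧ Λ μ ≠ Y₁ ∧ Λ μ ≠ Y₂ ∧ Λ μ⁻¹ = Λ μ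
  Λ_inj : ∀ μ ν : K →* ℂˣ, μ ≠ 1 → μ ≠ σ → ν ≠ 1 → ν ≠ σ → Λ μ = Λ ν → μ = ν ∨ μ = ν⁻¹
  Y_ne : Y₁ ≠ Y₂ ∧ Y₁ ≠ triv ∧ Y₂ ≠ triv ∧ Y₁ ≠ X ∧ Y₂ ≠ X
  coef_nonreal : ∀ μ : K →* ℂˣ, μ ≠ 1 → μ ≠ σ → ∀ χ : IrrCharacter G,
    coef K μ χ = ind χ triv + δ * ind χ X - δ * ind χ (Λ μ)
  coef_sigma : ∀ χ : IrrCharacter G,
    coef K σ χ = ind χ triv + δ * ind χ X + ε₁ * ind χ Y₁ + ε₂ * ind χ Y₂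

/-- Output (B) of the lattice argument (only possible for `|K| = 6`; to be refuted). -/
structure ShapeB {G : Type*} [Group G] [Fintype G] (K : Subgroup G) (triv : IrrCharacter G)
    (σ : K →* ℂˣ) (δ : ℤ) (X : IrrCharacter G) (Λ : (K →* ℂˣ) → IrrCharacter G)
    (C : IrrCharacter G) (ε : ℤ) (ν₁ ν₂ : K →* ℂˣ) : Prop where
  triv_apply : ∀ g, (triv : G → ℂ) g = 1
  hδ : δ = 1 ∨ δ = -1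
  hε : ε = 1 ∨ ε = -1
  hσ1 : σ ≠ 1
  hσ : σ⁻¹ = σ
  hσu : ∀ μ : K →* ℂˣ, μ ≠ 1 → μ⁻¹ = μ → μ = σ
  hν : ν₁ ≠ 1 ∧ ν₁ ≠ σ ∧ ν₂ ≠ 1 ∧ ν₂ ≠ σ ∧ ν₁ ≠ ν₂ ∧ ν₁ ≠ ν₂⁻¹
  hall : ∀ μ : K →* ℂˣ, μ ≠ 1 → μ ≠ σ → μ = ν₁ ∨ μ = ν₁⁻¹ ∨ μ = ν₂ ∨ μ = ν₂⁻¹
  X_ne : X ≠ triv
  C_ne : C ≠ triv ∧ C ≠ X ∧ C ≠ Λ ν₁ ∧ C ≠ Λ ν₂
  Λ_ne : Λ ν₁ ≠ Λ ν₂ ∧ Λ ν₁ ≠ triv ∧ Λ ν₂ ≠ triv ∧ Λ ν₁ ≠ X ∧ Λ ν₂ ≠ X ∧
    Λ ν₁⁻¹ = Λ ν₁ ∧ Λ ν₂⁻¹ = Λ ν₂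
  coef_nonreal : ∀ μ : K →* ℂˣ, μ ≠ 1 → μ ≠ σ → ∀ χ : IrrCharacter G,
    coef K μ χ = ind χ triv + δ * ind χ X - δ * ind χ (Λ μ)
  coef_sigma : ∀ χ : IrrCharacter G,
    coef K σ χ = ind χ triv - δ * ind χ (Λ ν₁) - δ * ind χ (Λ ν₂) + ε * ind χ C

/-- Degrees, order and values in case `ShapeA`. -/
structure FactsS {G : Type*} [Group G] [Fintype G] (t : G) (K : Subgroup G) (triv : IrrCharacter G)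
    (σ : K →* ℂˣ) (δ : ℤ) (X : IrrCharacter G) (Λ : (K →* ℂˣ) → IrrCharacter G)
    (Y₁ Y₂ : IrrCharacter G) (ε₁ ε₂ : ℤ) : Prop where
  card_G : (Nat.card G : ℤ) = 2 * Nat.card K * (2 * Nat.card K + δ) * (Nat.card K + δ)
  deg_X : (X : G → ℂ) 1 = 2 * (Nat.card K : ℂ) + δ
  deg_Λ : ∀ μ : K →* ℂˣ, μ ≠ 1 → μ ≠ σ → (Λ μ : G → ℂ) 1 = 2 * ((Nat.card K : ℂ) + δ)
  deg_Y : (Y₁ : G → ℂ) 1 = (Nat.card K : ℂ) + δ ∧ (Y₂ : G → ℂ) 1 = (Nat.card K : ℂ) + δ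
  eps : ε₁ = -δ ∧ ε₂ = -δ
  val_X : ∀ y ∈ K, y ≠ 1 → (X : G → ℂ) y = δ
  val_Λ_t : ∀ μ : K →* ℂˣ, μ ≠ 1 → μ ≠ σ → (Λ μ : G → ℂ) t ^ 2 = 4
  val_Y_t : (Y₁ : G → ℂ) t ^ 2 = 1 ∧ (Y₂ : G → ℂ) t ^ 2 = 1
  val_other : ∀ χ : IrrCharacter G, χ ≠ triv → χ ≠ X → χ ≠ Y₁ → χ ≠ Y₂ →
    (∀ μ : K →* ℂˣ, μ ≠ 1 → μ ≠ σ → χ ≠ Λ μ) → ∀ y ∈ K, y ≠ 1 → (χ : G → ℂ) y = 0

end Cfsg.Agent.Helper71.BSW
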