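import Cfsg.Agent.Helper71.BSW.DefsCT
import Cfsg.Agent.Helper68.BSW.S4
import Cfsg.Agent.Helper52.BSW.S5a
import Cfsg.Agent.Helper49.BSW.S5b
import Cfsg.Agent.Helper29.BSW.S6
import Cfsg.Agent.Helper88.BSW.S7
import Cfsg.Agent.Helper87.BSW.S8
import Cfsg.Agent.Helper29.BSW.S9
import Cfsg.Agent.Helper87.BSW.S10

/-!
# Brauer–Suzuki–Wall, abstract form (S3282): from the shape (A) of the `theta K μ` to `Ctx` (helper71)

`ctx_of_shapeA`: given the facts `FactsT` and the decomposition `ShapeA` of the generalized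
characters `theta K μ`, the group order, the degrees and the counting statements of `Ctx` follow.
Put together from the pieces proved by the team (layer S; see `departures/helper71.md`).
-/

set_option autoImplicit false

namespace Cfsg.Agent.Helper71.BSW

open Cfsg

/-- From shape (A) to the context of the group-theoretic half. -/
theorem ctx_of_shapeA {G : Type*} [Group G] [Fintype G] [Fintype (IrrCharacter G)] {t s : G}
    {K : Subgroup G} [Fintype ↥K] [Fintype (↥K →* ℂˣ)]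
    {triv : IrrCharacter G} {σ : K →* ℂˣ} {δ : ℤ} {X : IrrCharacter G}
    {Λ : (K →* ℂˣ) → IrrCharacter G} {Y₁ Y₂ : IrrCharacter G} {ε₁ ε₂ : ℤ}
    (h : Hyp t s K) (A0 : FactsA0 t s K) (A1 : FactsA1 t s K) (hk : 4 ≤ Nat.card K)
    (T : FactsT t s K) (SA : ShapeA K triv σ δ X Λ Y₁ Y₂ ε₁ ε₂) :
    ∃ q d : ℕ, Ctx t s K q d := by
  have hk2 : 2 ∣ Nat.card K := A0.two_dvd_card_K
  obtain ⟨hvX, hvΛ, hvY, hvo⟩ := Cfsg.Agent.Helper68.BSW.s_values h T SA
  obtain ⟨x, y₁, y₂, hx, hy₁, hy₂, hX1, hY₁1, hY₂1, hxd, hΛ1, hcong, E1, E2, E3⟩ :=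
    Cfsg.Agent.Helper52.BSW.s_equations h hk T SA hvX hvΛ hvY hvo
  have h2kN : 2 * Nat.card K ∣ Nat.card G := by
    rw [← A0.card_cent_t]
    exact Subgroup.card_subgroup_dvd_card _
  obtain ⟨hxe, hN, he1, he2, hy1e, hy2e⟩ :=
    Cfsg.Agent.Helper49.BSW.bsw_arith (Nat.card K) (Nat.card G) x y₁ y₂ δ ε₁ ε₂ hk hk2 SA.hδ
      SA.hε₁ SA.hε₂ hx hy₁ hy₂ hxd h2kN A1.coprime_index hcong E1 E2 E3
  have hxC : (x : ℂ) = 2 * (Nat.card K : ℂ) + δ := by
    have := congrArg (fun z : ℤ => (z : ℂ)) hxe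
    simpa using this
  have hy1C : (y₁ : ℂ) = (Nat.card K : ℂ) + δ := by
    have := congrArg (fun z : ℤ => (z : ℂ)) hy1e
    simpa using this
  have hy2C : (y₂ : ℂ) = (Nat.card K : ℂ) + δ := by
    have := congrArg (fun z : ℤ => (z : ℂ)) hy2e
    simpa using this
  have FS : FactsS t K triv σ δ X Λ Y₁ Y₂ ε₁ ε₂ :=
    { card_G := hN
      deg_X := by rw [hX1, hxC]
      deg_Λ := by
        intro μ hμ1 hμσ
        rw [hΛ1 μ hμ1 hμσ, hxC]
        rcases SA.hδ with rfl | rfl <;> push_cast <;> ring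
      deg_Y := ⟨by rw [hY₁1, hy1C], by rw [hY₂1, hy2C]⟩
      eps := ⟨he1, he2⟩
      val_X := hvX
      val_Λ_t := hvΛ
      val_Y_t := hvY
      val_other := hvo }
  have hq0 : (0 : ℤ) ≤ 2 * Nat.card K + δ := by
    rcases SA.hδ with rfl | rfl <;> omega
  have hd0 : (0 : ℤ) ≤ Nat.card K + δ := by
    rcases SA.hδ with rfl | rfl <;> omega
  obtain ⟨q, hq⟩ : ∃ q : ℕ, (q : ℤ) = 2 * Nat.card K + δ :=
    ⟨(2 * (Nat.card K : ℤ) + δ).toNat, Int.toNat_of_nonneg hq0⟩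
  obtain ⟨d, hd⟩ : ∃ d : ℕ, (d : ℤ) = Nat.card K + δ :=
    ⟨((Nat.card K : ℤ) + δ).toNat, Int.toNat_of_nonneg hd0⟩
  have hvan := Cfsg.Agent.Helper29.BSW.s_vanish (t := t) (s := s) hk2 SA FS hq hd
  have hoff := Cfsg.Agent.Helper88.BSW.s_offK T SA FS
  refine ⟨q, d, ?_⟩
  refine
    { hyp := h
      k4 := hk
      sign := ?_
      card := ?_
      nopr := Cfsg.Agent.Helper87.BSW.s_nopr h hk hk2 T SA FS hq hd hvan hoff
      countQ := Cfsg.Agent.Helper29.BSW.s_countQ h hk A0 A1 T SA FS hq hd hvan hoff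
      invD := Cfsg.Agent.Helper87.BSW.s_invD h hk A0 A1 T SA FS hq hd hvan hoff }
  · rcases SA.hδ with rfl | rfl
    · left; omega
    · right; omega
  · have hN' : (Nat.card G : ℤ) = ((2 * Nat.card K * q * d : ℕ) : ℤ) := by
      rw [hN]; push_cast; rw [hq, hd]
    exact_mod_cast hN'

end Cfsg.Agent.Helper71.BSW
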