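import Cfsg.Agent.Helper71.BSW.T
import Cfsg.Agent.Helper71.BSW.CTA
import Cfsg.Agent.Helper90.BSW.S3
import Cfsg.Agent.Helper12.BSW.S2
import Cfsg.Agent.Helper74.CharBasic

/-!
# Brauer–Suzuki–Wall, abstract form (S3282): assembly of the character-theoretic half (helper71)

`ctx_of_hyp : Hyp t s K → 4 ≤ |K| → ∃ q d, Ctx t s K q d`, put together from the pieces proved by
the team (layers T and S; see `departures/helper71.md` for the credits).
-/

set_option autoImplicit false

namespace Cfsg.Agent.Helper71.BSW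

open Cfsg

/-- The character-theoretic half of Brauer–Suzuki–Wall. -/
theorem ctx_of_hyp {G : Type*} [Group G] [Finite G] {t s : G} {K : Subgroup G}
    (h : Hyp t s K) (A0 : FactsA0 t s K) (A1 : FactsA1 t s K) (hk : 4 ≤ Nat.card K) :
    ∃ q d : ℕ, Ctx t s K q d := by
  classical
  let _ : Fintype G := Fintype.ofFinite G
  let _ : Fintype (IrrCharacter G) := Cfsg.Agent.Helper74.irrFintype G
  let _ : Fintype ↥K := Fintype.ofFinite ↥K
  let _ : Fintype (↥K →* ℂˣ) := Fintype.ofFinite _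
  have T : FactsT t s K := factsT_of_hyp h A0 A1
  obtain ⟨triv, σ, δ, X, Λ, hA | hB⟩ := Cfsg.Agent.Helper12.BSW.s_shape h hk T
  · obtain ⟨Y₁, Y₂, ε₁, ε₂, SA⟩ := hA
    exact ctx_of_shapeA h A0 A1 hk T SA
  · obtain ⟨C, ε, ν₁, ν₂, SB⟩ := hB
    exact (Cfsg.Agent.Helper90.BSW.s_refute_B h T SB).elim

end Cfsg.Agent.Helper71.BSW
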