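import Cfsg.Agent.Helper71.BSW.GT
import Cfsg.Agent.Helper71.BSW.CT
import Cfsg.Agent.Helper32.BSW.K2a
import Cfsg.Agent.Helper24.BSW.K2b
import Cfsg.Agent.Helper13.BSW.K2c

/-!
# Brauer–Suzuki–Wall, abstract form (S3282): the conclusion from the bundled hypotheses (helper71)
-/

set_option autoImplicit false

namespace Cfsg.Agent.Helper71.BSW

/-- The conclusion of the abstract Brauer–Suzuki–Wall theorem from the bundled hypotheses. -/
theorem concl_of_hyp {G : Type*} [Group G] [Finite G] {t s : G} {K : Subgroup G}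
    (h : Hyp t s K) : Concl G := by
  have A0 := factsA0_of_hyp h
  have A1 := factsA1_of_hyp h A0
  have hk2 : 2 ∣ Nat.card K := A0.two_dvd_card_K
  have hkpos : 0 < Nat.card K := Nat.card_pos
  by_cases hk : 4 ≤ Nat.card K
  · obtain ⟨q, d, c⟩ := ctx_of_hyp h A0 A1 hk
    exact concl_of_ctx c
  · have hk' : Nat.card K = 2 := by omega
    rcases Cfsg.Agent.Helper32.BSW.k2_card h A0 A1 hk' with hG | hG
    · exact Cfsg.Agent.Helper24.BSW.k2_concl_twelve h A0 A1 hk' hG
    · exact Cfsg.Agent.Helper13.BSW.k2_concl_sixty h A0 A1 hk' hG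

end Cfsg.Agent.Helper71.BSW
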