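import Cfsg.Agent.Helper71.BSW.Defs
import Cfsg.Agent.Helper34.BSW.A0a
import Cfsg.Agent.Helper23.BSW.A0b
import Cfsg.Agent.Helper23.BSW.A0c
import Cfsg.Agent.Helper48.BSW.A1a
import Cfsg.Agent.Helper48.BSW.A1b
import Cfsg.Agent.Helper24.BSW.A1c
import Cfsg.Agent.Helper55.BSW.A1d
import Cfsg.Agent.Helper68.BSW.A1e
import Cfsg.Agent.Helper55.BSW.A1f
import Cfsg.Agent.Helper68.BSW.A1g
import Cfsg.Agent.Helper49.BSW.A1h
import Cfsg.Agent.Helper53.BSW.B1
import Cfsg.Agent.Helper53.BSW.B2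
import Cfsg.Agent.Helper2.BSW.B3
import Cfsg.Agent.Helper2.BSW.B4
import Cfsg.Agent.Helper67.BSW.B5
import Cfsg.Agent.Helper23.BSW.B6
import Cfsg.Agent.Helper67.BSW.B7
import Cfsg.Agent.Helper24.BSW.B8
import Cfsg.Agent.Helper23.BSW.B9
import Cfsg.Agent.Helper47.BSW.B10
import Cfsg.Agent.Helper53.BSW.B11
import Cfsg.Agent.Helper55.BSW.C1
import Cfsg.Agent.Helper30.BSW.C5
import Cfsg.Agent.Helper55.BSW.C6
import Cfsg.Agent.Helper31.BSW.C8
import Cfsg.Agent.Helper31.BSW.C9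
import Cfsg.Agent.Helper53.BSW.C10
import Cfsg.Agent.Helper48.BSW.D1
import Cfsg.Agent.Helper48.BSW.D2
import Cfsg.Agent.Helper66.BSW.D3
import Cfsg.Agent.Helper66.BSW.D4

/-!
# Brauer–Suzuki–Wall, abstract form (S3282): assembly of the group-theoretic half (helper71)

`concl_of_ctx : Ctx t s K q d → Concl G`, put together from the pieces proved by the team
(layers A0, A1, B, C, D; see `departures/helper71.md` for the credits).
-/

set_option autoImplicit false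

namespace Cfsg.Agent.Helper71.BSW

variable {G : Type*} [Group G] [Finite G] {t s : G} {K : Subgroup G} {q d : ℕ}

/-- Layer A0 assembled. -/
theorem factsA0_of_hyp (h : Hyp t s K) : FactsA0 t s K := by
  obtain ⟨h1, h2, h3, h4⟩ := Cfsg.Agent.Helper34.BSW.factsA0a h
  obtain ⟨h5, h6, h7, h8⟩ := Cfsg.Agent.Helper23.BSW.factsA0b h h2
  obtain ⟨h9, h10⟩ := Cfsg.Agent.Helper23.BSW.factsA0c h h2 h3 h7
  exact ⟨h1, h2, h3, h4, h5, h6, h7, h8, h9, h10⟩

/-- Layer A1 assembled. -/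
theorem factsA1_of_hyp (h : Hyp t s K) (A : FactsA0 t s K) : FactsA1 t s K where
  coprime_index := Cfsg.Agent.Helper48.BSW.a1_coprime_index h A
  conj_into_K := Cfsg.Agent.Helper24.BSW.a1_conj_into_K h A
    (Cfsg.Agent.Helper48.BSW.a1_sylow_into_K h A)
  sylow_into_K := Cfsg.Agent.Helper48.BSW.a1_sylow_into_K h A
  card_conjK := Cfsg.Agent.Helper55.BSW.a1_card_conjK h A
  orderOf_dvd_of_commute := Cfsg.Agent.Helper68.BSW.a1_orderOf_dvd_of_commute h A
  invPairs_of_mem_K := Cfsg.Agent.Helper55.BSW.a1_invPairs_of_mem_K h A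
  no_four_group := Cfsg.Agent.Helper68.BSW.a1_no_four_group h A
  local_sylow_two_cyclic := Cfsg.Agent.Helper49.BSW.a1_local_sylow_two_cyclic h A
    (Cfsg.Agent.Helper68.BSW.a1_no_four_group h A)

/-- Layer B assembled. -/
theorem factsB_of_ctx (c : Ctx t s K q d) (A0 : FactsA0 t s K) (A1 : FactsA1 t s K) :
    FactsB t s K q d := by
  have h_arith := Cfsg.Agent.Helper53.BSW.b_arith c A0
  have h_tri := Cfsg.Agent.Helper53.BSW.b_trichotomy c A1
  have h_cQ := Cfsg.Agent.Helper2.BSW.b_card_cent_Q c A1 h_arith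
  have h_eQ := Cfsg.Agent.Helper2.BSW.b_exists_Q c h_arith
  have h_cD := Cfsg.Agent.Helper67.BSW.b_card_cent_D c A1 h_arith
  have h_Deq := Cfsg.Agent.Helper23.BSW.b_cent_D_eq c h_arith h_cD
  have h_Dconj := Cfsg.Agent.Helper67.BSW.b_cent_D_conj c h_arith h_cD h_Deq
  have h_Delt := Cfsg.Agent.Helper24.BSW.b_card_Delt c A1 h_arith h_tri
  have h_cND := Cfsg.Agent.Helper23.BSW.b_card_normalizer_D c h_arith h_cD h_Deq h_Dconj h_Delt
  have h_ND := Cfsg.Agent.Helper47.BSW.b_normalizer_D c h_arith h_cD h_Deq h_cND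
  have h_odd := Cfsg.Agent.Helper53.BSW.b_odd_normalizer_centralizes c A0 A1 h_arith h_cD h_Deq h_ND
  exact ⟨h_arith, h_tri, h_cQ, h_eQ, h_cD, h_Deq, h_Dconj, h_Delt, h_cND, h_ND, h_odd⟩

/-- `C(z)` is abelian for every `q`-element `z`. -/
theorem abelian_Q_of_ctx (c : Ctx t s K q d) (A1 : FactsA1 t s K) (B : FactsB t s K q d) :
    ∀ z : G, z ≠ 1 → (orderOf z).Coprime (2 * Nat.card K * d) →
    ∀ a ∈ Subgroup.centralizer ({z} : Set G), ∀ b ∈ Subgroup.centralizer ({z} : Set G),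
      a * b = b * a := by
  have hq7 : 7 ≤ q := B.arith.2.2.2.2.2.2.2
  by_cases hpp : IsPrimePow q
  · obtain ⟨p, f, hp, _, hpf⟩ := (isPrimePow_nat_iff q).1 hpp
    have : Fact p.Prime := ⟨hp⟩
    exact Cfsg.Agent.Helper55.BSW.c_abelian_of_prime_pow c B.arith B.card_cent_Q hpf.symm
      (fun U hU hU1 => Cfsg.Agent.Helper30.BSW.c_local_normal_sylow c A1 B.arith
        B.odd_normalizer_centralizes hpf.symm U hU hU1)
  · obtain ⟨p, hp, hpq⟩ := Nat.exists_prime_and_dvd (show q ≠ 1 by omega)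
    have hex : ∃ p' : ℕ, p'.Prime ∧ p' ∣ q ∧ p ≠ p' := by
      by_contra hno
      apply hpp
      rw [isPrimePow_iff_unique_prime_dvd]
      refine ⟨p, ⟨hp, hpq⟩, ?_⟩
      rintro p' ⟨hp', hpq'⟩
      by_contra hne
      exact hno ⟨p', hp', hpq', fun e => hne e.symm⟩
    obtain ⟨p', hp', hpq', hne⟩ := hex
    exact Cfsg.Agent.Helper55.BSW.c_abelian_of_two_primes c B.arith B.card_cent_Q hp hp' hne
      hpq hpq'

/-- Layer C assembled. -/
theorem factsC_of_ctx (c : Ctx t s K q d) (A1 : FactsA1 t s K) (B : FactsB t s K q d) :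
    FactsC t s K q d := by
  have h_ab := abelian_Q_of_ctx c A1 B
  have h_eq := Cfsg.Agent.Helper31.BSW.c_cent_Q_eq c B.arith B.card_cent_Q h_ab
  have h_conj := Cfsg.Agent.Helper31.BSW.c_cent_Q_conj c B.arith B.card_cent_Q h_eq
  have h_cN := Cfsg.Agent.Helper53.BSW.c_card_normalizer_Q c A1 B.arith B.trichotomy
    B.card_cent_Q h_eq h_conj
  exact ⟨h_ab, h_eq, h_conj, h_cN⟩

/-- The group-theoretic half of Brauer–Suzuki–Wall. -/
theorem concl_of_ctx (c : Ctx t s K q d) : Concl G := by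
  have A0 := factsA0_of_hyp c.hyp
  have A1 := factsA1_of_hyp c.hyp A0
  have B := factsB_of_ctx c A0 A1
  have C := factsC_of_ctx c A1 B
  rcases c.sign with ⟨hq, _⟩ | ⟨hq, _⟩
  · exact Cfsg.Agent.Helper66.BSW.d_concl_plus c A0 A1 B C hq
      (Cfsg.Agent.Helper48.BSW.d_normalizer_Q_plus c A0 A1 B C hq)
  · exact Cfsg.Agent.Helper66.BSW.d_concl_minus c A0 A1 B C hq
      (Cfsg.Agent.Helper48.BSW.d_normalizer_Q_minus c A0 A1 B C hq)

end Cfsg.Agent.Helper71.BSW
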