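import Cfsg.Agent.Helper71.BSW.DefsCT
import Cfsg.Agent.Helper34.BSW.T1
import Cfsg.Agent.Helper48.BSW.T2
import Cfsg.Agent.Helper34.BSW.T3
import Cfsg.Agent.Helper55.BSW.T0
import Cfsg.Agent.Helper90.BSW.T7
import Cfsg.Agent.Helper55.BSW.T7b
import Cfsg.Agent.Helper48.BSW.T4a
import Cfsg.Agent.Helper34.BSW.T4b
import Cfsg.Agent.Helper82.BSW.T5
import Cfsg.Agent.Helper82.BSW.T6
import Cfsg.Agent.Helper53.BSW.T8a
import Cfsg.Agent.Helper53.BSW.T8b

/-!
# Brauer–Suzuki–Wall, abstract form (S3282): the facts about `theta K μ` assembled (helper71)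

`factsT_of_hyp : Hyp t s K → FactsA0 t s K → FactsA1 t s K → FactsT t s K`, put together from the
pieces proved by the team (layer T; see `departures/helper71.md` for the credits).
-/

set_option autoImplicit false

namespace Cfsg.Agent.Helper71.BSW

open Cfsg

/-- Layer T assembled. -/
theorem factsT_of_hyp {G : Type*} [Group G] [Fintype G] [Fintype (IrrCharacter G)] {t s : G}
    {K : Subgroup G} [Fintype ↥K] [Fintype (↥K →* ℂˣ)]
    (h : Hyp t s K) (A0 : FactsA0 t s K) (A1 : FactsA1 t s K) : FactsT t s K := by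
  obtain ⟨h_one, h_conj, h_off⟩ := Cfsg.Agent.Helper34.BSW.t_theta_basic K
  have h_mem := Cfsg.Agent.Helper48.BSW.t_theta_mem h A0
  obtain ⟨h_int, h_exp⟩ := Cfsg.Agent.Helper34.BSW.t_coef_expand K
  have h_TI := Cfsg.Agent.Helper55.BSW.t_sum_TI h A0
  obtain ⟨h_orth, h_sumd, h_col, h_cardd⟩ := Cfsg.Agent.Helper90.BSW.t_dual (K := K) h.hKab
  have h_inner := Cfsg.Agent.Helper48.BSW.t_inner_theta h h_one h_conj h_mem h_off h_TI h_orth
    h_sumd
  have h_gram := Cfsg.Agent.Helper34.BSW.t_gram (t := t) (s := s) h_inner h_int h_exp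
  obtain ⟨h_triv, h_inv⟩ := Cfsg.Agent.Helper82.BSW.t_coef_triv_inv h h_one h_conj h_mem h_off
    h_TI h_sumd
  have h_app := Cfsg.Agent.Helper82.BSW.t_irr_apply_K h A0 h_one h_conj h_mem h_off h_TI h_col
    h_sumd h_int
  have h_sig := Cfsg.Agent.Helper55.BSW.t_exists_sigma h A0
  have h_ics := Cfsg.Agent.Helper53.BSW.t_invol_char_sum h A0 A1
  have h_F := Cfsg.Agent.Helper53.BSW.t_F_const h h_app h_sumd h_ics h_orth
  exact ⟨h_one, h_conj, h_mem, h_off, h_int, h_exp, h_gram, h_triv, h_inv, h_app, h_sumd,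
    h_cardd, h_sig, h_F⟩

end Cfsg.Agent.Helper71.BSW
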